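import Cfsg.Agent.Lib.KnownA.HSModel.Points

/-!
The group generated by two numbered permutations of the 100 points is the Higman–Sims group.
-/

set_option autoImplicit false
set_option maxRecDepth 100000

namespace CfsgLib.KnownA.HSModel

open Cfsg CfsgLib.Golay CfsgLib.KnownA.PermCert

/-- A code preserves the adjacency table. -/
def autOK (c : ℕ) : Bool :=
  valid 100 c && (List.range 100).all fun i => (List.range 100).all fun j =>
    !Bool.xor ((adjRows.getD (pimg c i) 0).testBit (pimg c j)) ((adjRows.getD i 0).testBit j)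

/-- The checks of the generators. -/
def gensOK : Bool :=
  (List.range 2).all fun k =>
    autOK (hsGens.getD k 0) && Nat.beq (hsGenOrders.getD k 0 % 2) 1 &&
      eqW 100 (List.replicate (hsGenOrders.getD k 0) (hsGens.getD k 0)) []

theorem gens_ok : gensOK = true := by decide +kernel

/-- The entries of the program contain the transversals. -/
def slpHas : Bool :=
  match slpRun 100 slpOps hsGens with
  | none => false
  | some F => chain.all fun e => e.2.all fun c => F.any (Nat.beq c)

theorem chain_ok : chainOK 100 [] chain = true ∧ chainProd chain = 14784000 ∧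
    hsGens.all (valid 100) = true := by
  decide +kernel

theorem slp_ok : slpHas = true := by decide +kernel

/-- The numbered group. -/
noncomputable def hsPermGroup : Subgroup (Equiv.Perm (Fin 100)) := genGroup 100 hsGens

/-- The representation on the numbered points. -/
noncomputable def hsRep : hsGroup →* Equiv.Perm (Fin 100) :=
  (ptEquiv.symm.permCongrHom.toMonoidHom.comp hsGraphAut.subtype).comp hsPermHom

theorem hsRep_injective : Function.Injective hsRep :=
  (ptEquiv.symm.permCongrHom.injective.comp Subtype.val_injective).comp hsPermHom_injective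

/-- A code preserving the table gives a symmetry of the configuration. -/
theorem aut_mem {c : ℕ} (h : autOK c = true) :
    (ptEquiv.permCongrHom (permOf 100 c) : Equiv.Perm hsPoints) ∈ hsGraphAut := by
  simp only [autOK, Bool.and_eq_true, List.all_eq_true, List.mem_range] at h
  obtain ⟨hv, haut⟩ := h
  intro u v
  obtain ⟨a, rfl⟩ := ptEquiv.surjective u
  obtain ⟨b, rfl⟩ := ptEquiv.surjective v
  have e : ∀ x, ptEquiv.permCongrHom (permOf 100 c) (ptEquiv x) = ptEquiv (permOf 100 c x) := fun x => by
    show ptEquiv.permCongr (permOf 100 c) (ptEquiv x) = _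
    rw [Equiv.permCongr_apply, Equiv.symm_apply_apply]
  rw [e, e]
  show dotInt ((hpt _ : leechLattice) : GolayPt → ℤ) (hpt _ : leechLattice) = 8 ↔
    dotInt ((hpt a : leechLattice) : GolayPt → ℤ) (hpt b : leechLattice) = 8
  rw [adj_iff, adj_iff, permOf_val hv, permOf_val hv]
  have := haut a a.2 b b.2
  revert this
  cases (adjRows.getD (pimg c (a : ℕ)) 0).testBit (pimg c (b : ℕ)) <;>
    cases (adjRows.getD (a : ℕ) 0).testBit (b : ℕ) <;> simp

theorem index_range : hsPermHom.range.index = 2 := by
  have h := hsPermHom.range.card_mul_index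
  rw [card_hsGraphAut, ← Nat.card_congr (MonoidHom.ofInjective hsPermHom_injective).toEquiv,
    card_hsGroup] at h
  omega

theorem gen_le_range : hsPermGroup ≤ hsRep.range := by
  refine genGroup_le fun c hc => ?_
  obtain ⟨k, hk, rfl⟩ := List.getElem_of_mem hc
  have hk2 : k < 2 := hk
  have h := List.all_eq_true.1 gens_ok k (List.mem_range.2 hk2)
  simp only [Bool.and_eq_true] at h
  rw [List.getD_eq_getElem _ _ hk] at h
  obtain ⟨⟨haut, hodd⟩, hpow⟩ := h
  generalize hsGens[k] = c at *
  let π : Equiv.Perm hsPoints := ptEquiv.permCongrHom (permOf 100 c)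
  have hπ : π ∈ hsGraphAut := aut_mem haut
  have hv : valid 100 c = true := (Bool.and_eq_true _ _ ▸ haut : _ ∧ _).1
  have hidx := index_range
  obtain ⟨m, hm⟩ : ∃ m, hsGenOrders.getD k 0 = 2 * m + 1 :=
    ⟨hsGenOrders.getD k 0 / 2, by have := Nat.eq_of_beq_eq_true hodd; omega⟩
  have hpow1 : (⟨π, hπ⟩ : hsGraphAut) ^ (2 * m + 1) = 1 := by
    refine Subtype.ext ?_
    rw [Subgroup.coe_pow, Subgroup.coe_one]
    show ptEquiv.permCongrHom (permOf 100 c) ^ _ = 1
    rw [← map_pow, ← map_one ptEquiv.permCongrHom]
    congr 1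
    have := (eqW_iff (fun d hd => by rw [List.eq_of_mem_replicate hd]; exact hv) (by simp)).1 hpow
    rw [prodW, List.map_replicate, List.prod_replicate] at this
    rw [← hm, this]
    rfl
  have hmem : (⟨π, hπ⟩ : hsGraphAut) ∈ hsPermHom.range := by
    have e : (⟨π, hπ⟩ : hsGraphAut) = (⟨π, hπ⟩ : hsGraphAut) ^ (m + 1) * (⟨π, hπ⟩ : hsGraphAut) ^ (m + 1) := by
      rw [← pow_add, show m + 1 + (m + 1) = (2 * m + 1) + 1 by omega, pow_succ, hpow1, one_mul]
    rw [e]
    exact (Subgroup.mul_mem_iff_of_index_two hidx).2 Iff.rfl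
  obtain ⟨g, hg⟩ := hmem
  refine ⟨g, ?_⟩
  show ptEquiv.symm.permCongrHom (hsPermHom g : Equiv.Perm hsPoints) = _
  rw [hg]
  refine Equiv.ext fun x => ?_
  show ptEquiv.symm.permCongr (ptEquiv.permCongr (permOf 100 c)) x = _
  simp [Equiv.permCongr_apply]

theorem slp_mem : ∀ e ∈ chain, ∀ c ∈ e.2, permOf 100 c ∈ hsPermGroup := by
  intro e he c hc
  have h := slp_ok
  simp only [slpHas] at h
  cases hF : slpRun 100 slpOps hsGens with
  | none => rw [hF] at h; exact absurd h (by decide)
  | some F =>
    rw [hF] at h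
    obtain ⟨d, hd, hcd⟩ := List.any_eq_true.1 (List.all_eq_true.1 (List.all_eq_true.1 h e he) c hc)
    rw [Nat.eq_of_beq_eq_true hcd]
    exact (slpRun_sound _ (fun c hc => ⟨List.all_eq_true.1 chain_ok.2.2 c hc, mem_genGroup hc⟩) hF d hd).2

theorem card_hsPermGroup : Nat.card hsPermGroup = 44352000 := by
  have hlow : 14784000 ≤ Nat.card hsPermGroup := by
    obtain ⟨h1, h2, -⟩ := chain_ok
    rw [← h2]
    exact card_ge_chain hsPermGroup h1 slp_mem hsPermGroup (fun σ => by simp)
  have : Finite hsGroup := Nat.finite_of_card_ne_zero (by rw [card_hsGroup]; norm_num)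
  have := isSimple_hsGroup
  set K : Subgroup hsGroup := hsPermGroup.comap hsRep with hK
  have hcK : Nat.card K = Nat.card hsPermGroup := by
    rw [Nat.card_congr (K.equivMapOfInjective hsRep hsRep_injective).toEquiv,
      Subgroup.map_comap_eq_self gen_le_range]
  suffices hi : K.index = 1 by
    rw [← hcK, Subgroup.index_eq_one.1 hi, Subgroup.card_top, card_hsGroup]
  have hmul := K.card_mul_index
  rw [hcK, card_hsGroup] at hmul
  have hidx : K.index ≤ 3 := by nlinarith
  by_contra hne
  have hcore : K.normalCore = ⊥ := by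
    refine (isSimple_hsGroup.eq_bot_or_eq_top_of_normal _ K.normalCore_normal).resolve_right fun h => ?_
    exact hne (Subgroup.index_eq_one.2 (top_le_iff.1 (h ▸ K.normalCore_le)))
  have hinj : Function.Injective (MulAction.toPermHom hsGroup (hsGroup ⧸ K)) := by
    rw [← MonoidHom.ker_eq_bot_iff, ← Subgroup.normalCore_eq_ker, hcore]
  have h1 := Nat.card_le_card_of_injective _ hinj
  rw [Nat.card_perm, card_hsGroup] at h1
  have h2 : (Nat.card (hsGroup ⧸ K)).factorial ≤ (3).factorial := Nat.factorial_le hidx
  norm_num at h2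
  omega

theorem gen_eq_range : hsPermGroup = hsRep.range := by
  have : Finite hsGroup := Nat.finite_of_card_ne_zero (by rw [card_hsGroup]; norm_num)
  refine Subgroup.eq_of_le_of_card_ge gen_le_range ?_
  rw [card_hsPermGroup, ← Nat.card_congr (MonoidHom.ofInjective hsRep_injective).toEquiv, card_hsGroup]

/-- The numbered group is the group of the standard pair. -/
noncomputable def hsGroupEquiv : hsGroup ≃* hsPermGroup :=
  (MonoidHom.ofInjective hsRep_injective).trans (MulEquiv.subgroupCongr gen_eq_range.symm)

end CfsgLib.KnownA.HSModel
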