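import Cfsg.Agent.Lib.KnownA.PermCert
import Cfsg.Agent.Lib.KnownA.CertTables

/-!
Certificate for the Schur multiplier of the Higman–Sims group, kernels of exponent 11.
-/

set_option autoImplicit false
set_option maxRecDepth 100000

namespace CfsgLib.KnownA.HSModel.Eleven

open CfsgLib.KnownA.SchurCert CfsgLib.KnownA.SchurCert.Tables CfsgLib.KnownA.PermCert

/-- Table, part 0. -/
def actPart0 : List ℕ := [
  0x1, 0x2, 0x3, 0x4,
  0x5, 0x6, 0x7, 0x8,
  0x9, 0xa, 0x0]

/-- Table. -/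
def act : List (List ℕ) := [actPart0]

/-- Table, part 0. -/
def mskPart0 : List ℕ := [
  0x0, 0x0, 0x0, 0x0,
  0x0, 0x0, 0x0, 0x0,
  0x0, 0x0, 0x1]

/-- Table. -/
def msk : List (List ℕ) := [mskPart0]

/-- Table, part 0. -/
def justPart0 : List ℕ := [
  0x0, 0x0, 0x0, 0x0,
  0x0, 0x0, 0x0, 0x0,
  0x0, 0x0, 0xa000000]

/-- Table. -/
def just : List (List ℕ) := [justPart0]

/-- Table, part 0. -/
def rankPart0 : List ℕ := [
  0x0, 0x0, 0x0, 0x0,
  0x0, 0x0, 0x0, 0x0,
  0x0, 0x0, 0x1]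

/-- Table. -/
def rank : List (List ℕ) := [rankPart0]

/-- Certificate. -/
def cert : Cert (List ℕ) :=
  mkCertT (decList 1) 11 1 11 act msk just rank
    [([0, 0, 0, 0, 0, 0, 0, 0, 0, 0, 0], [])]
    [none] [11]
    []
    [([(1, 5), (2, 10), (3, 4), (4, 9), (5, 3), (6, 8)],
    [(6, 6, 1), (1, 1, 2), (1, 2, 2), (1, 3, 2), (1, 4, 2), (1, 5, 2)])]
    [[(0, 8)]]

/-- Elements. -/
def codes : List ℕ := [0x13198c834ef0d39b7b10a983ae8c642eabd450a2a438b06b0229e4973c5a0945b8eb867416d9386d2a211f5a70110de2389ebf02a6760e826a983d18040fbe2aa49590866e2b308175294a25da0095c9bbe8de508efdb03,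
  0x73116003d7a31b928e62bbec9c35ad5539a3b2b1b03941f37415e2b433660a6432c08c0d68484c349d117a2310bb84b00244aa1d35a94a07a93c8138176c5b2a0cc17523c71f48cd8967ebe6bb84286a88e15e369d21751]

/-- Transpositions with product an element. -/
def evenSwaps0 : List (ℕ × ℕ) := [(0, 3), (3, 71), (71, 17), (17, 46), (46, 55), (55, 67), (67, 30), (30, 16), (16, 82), (82, 11), (1, 54), (54, 52), (52, 33), (33, 7), (7, 95), (95, 26), (26, 41), (41, 96), (96, 72), (72, 48), (2, 63), (63, 45), (45, 68), (68, 23), (23, 4), (4, 80), (80, 61), (61, 87), (87, 76), (76, 36), (5, 60), (60, 6), (6, 35), (35, 53), (53, 84), (84, 12), (12, 90), (90, 94), (94, 59), (59, 58), (8, 27), (27, 21), (21, 92), (92, 83), (83, 50), (50, 86), (86, 14), (14, 40), (40, 42), (42, 47), (9, 57), (57, 91), (91, 77), (77, 69), (69, 73), (73, 13), (13, 75), (75, 28), (28, 62), (62, 99), (10, 37), (37, 29), (29, 31), (31, 64), (64, 20), (20, 43), (43, 79), (79, 34), (34, 38), (38, 88), (15, 74), (74, 44), (44,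 56), (56, 19), (19, 24), (24, 89), (89, 98), (98, 70), (70, 39), (39, 51), (18, 32), (32, 81), (81, 85), (85, 93), (93, 97), (97, 49), (49, 78), (78, 66), (66, 22), (22, 25)]

/-- Transpositions with product an element. -/
def evenSwaps1 : List (ℕ × ℕ) := [(0, 81), (81, 39), (39, 45), (45, 96), (1, 46), (46, 18), (18, 51), (51, 61), (2, 72), (72, 55), (55, 97), (97, 44), (3, 78), (78, 74), (74, 80), (80, 26), (4, 54), (54, 82), (82, 85), (85, 56), (5, 60), (60, 12), (12, 59), (59, 6), (7, 71), (71, 32), (32, 19), (19, 36), (8, 40), (40, 83), (83, 86), (86, 50), (9, 13), (13, 77), (77, 99), (99, 57), (11, 66), (66, 89), (89, 76), (76, 48), (14, 47), (47, 92), (92, 27), (27, 21), (15, 63), (63, 33), (33, 16), (16, 22), (17, 49), (49, 98), (98, 68), (68, 52), (20, 31), (31, 64), (64, 38), (38, 37), (23, 41), (41, 67), (67, 25), (25, 24), (28, 91), (91, 73), (73, 62), (62, 75), (29, 88), (88, 43), (43, 34), (34, 79), (30, 93), (93, 70), (70, 87), (87, 95), (35,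 84), (84, 53), (53, 58), (58, 90)]

/-- Transpositions for the elements. -/
def evenSwaps : List (List (ℕ × ℕ)) := [evenSwaps0, evenSwaps1]

theorem ok : allOK 100 (modOps 11 1) cert [] codes = true := by decide +kernel

end CfsgLib.KnownA.HSModel.Eleven
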