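import Cfsg.Agent.Lib.KnownA.PermCert
import Cfsg.Agent.Lib.KnownA.CertTables

/-!
Certificate for the Schur multiplier of the Higman–Sims group, kernels of exponent 7.
-/

set_option autoImplicit false
set_option maxRecDepth 100000

namespace CfsgLib.KnownA.HSModel.Seven

open CfsgLib.KnownA.SchurCert CfsgLib.KnownA.SchurCert.Tables CfsgLib.KnownA.PermCert

/-- Table, part 0. -/
def actPart0 : List ℕ := [
  0x1, 0x2, 0x3, 0x4,
  0x5, 0x6, 0x0]

/-- Table. -/
def act : List (List ℕ) := [actPart0]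

/-- Table, part 0. -/
def mskPart0 : List ℕ := [
  0x0, 0x0, 0x0, 0x0,
  0x0, 0x0, 0x1]

/-- Table. -/
def msk : List (List ℕ) := [mskPart0]

/-- Table, part 0. -/
def justPart0 : List ℕ := [
  0x0, 0x0, 0x0, 0x0,
  0x0, 0x0, 0x6000000]

/-- Table. -/
def just : List (List ℕ) := [justPart0]

/-- Table, part 0. -/
def rankPart0 : List ℕ := [
  0x0, 0x0, 0x0, 0x0,
  0x0, 0x0, 0x1]

/-- Table. -/
def rank : List (List ℕ) := [rankPart0]

/-- Certificate. -/
def cert : Cert (List ℕ) :=
  mkCertT (decList 1) 7 1 7 act msk just rank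
    [([0, 0, 0, 0, 0, 0, 0], [])]
    [none] [7]
    []
    [([(1, 6), (2, 5), (3, 4), (4, 3)],
    [(4, 4, 1), (1, 1, 2), (1, 2, 2), (1, 3, 2)])]
    [[(0, 4)]]

/-- Elements. -/
def codes : List ℕ := [0xba79d08a22595e44b582708e1f540456c34af1864ca644bc56a1e063c04d3566f2189a9a39ed5142f1617724b241a70a4159097868738ea924159d9884008fb6867aa3efd719b941280508d03c94e4c5f574a5da8e6db03,
  0x268a04d667e1443c58e9a6ed094c07050b814a30548ea4c0e963dd5c1976961088ca271114cd0ae342d6bea96a516ad8955cca54e78198117d8a881bd6ec872161cc9136963dc75521b8d21b435f3cbbb3899abfa601002]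

/-- Transpositions with product an element. -/
def evenSwaps0 : List (ℕ × ℕ) := [(0, 3), (3, 71), (71, 53), (53, 98), (98, 30), (30, 16), (1, 54), (54, 11), (11, 74), (74, 17), (17, 37), (37, 29), (2, 27), (27, 91), (91, 34), (34, 5), (5, 75), (75, 83), (4, 90), (90, 45), (45, 20), (20, 25), (25, 79), (79, 87), (6, 82), (82, 21), (21, 46), (46, 28), (28, 15), (15, 40), (7, 43), (43, 44), (44, 65), (65, 38), (38, 78), (78, 70), (8, 95), (95, 81), (81, 88), (88, 39), (39, 67), (67, 96), (9, 24), (24, 42), (42, 66), (66, 19), (19, 92), (92, 94), (10, 57), (57, 61), (61, 49), (49, 22), (22, 63), (63, 55), (12, 60), (60, 26), (26, 33), (33, 51), (51, 59), (59, 77), (13, 32), (32, 89), (89, 48), (48, 36), (36, 41), (41, 47), (14, 35), (35, 18), (18, 80), (80, 52), (52, 97), (97, 58), (23, 31), (31, 68), (68, 99), (99, 93), (93, 50), (50, 73), (56, 85), (85, 62), (62, 72), (72, 69), (69, 64), (64, 86)]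

/-- Transpositions with product an element. -/
def evenSwaps1 : List (ℕ × ℕ) := [(0, 2), (1, 32), (3, 83), (4, 63), (5, 53), (6, 38), (7, 28), (8, 59), (9, 23), (10, 79), (11, 47), (12, 67), (13, 54), (14, 72), (15, 70), (16, 27), (17, 36), (18, 85), (19, 99), (20, 61), (21, 44), (22, 90), (24, 73), (25, 57), (26, 88), (29, 89), (30, 91), (31, 94), (33, 81), (34, 98), (35, 62), (37, 48), (39, 60), (40, 78), (41, 74), (42, 50), (43, 46), (45, 49), (51, 95), (52, 86), (55, 87), (56, 80), (58, 69), (64, 97), (65, 82), (66, 93), (68, 92), (71, 75), (76, 84), (77, 96)]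

/-- Transpositions for the elements. -/
def evenSwaps : List (List (ℕ × ℕ)) := [evenSwaps0, evenSwaps1]

theorem ok : allOK 100 (modOps 7 1) cert [] codes = true := by decide +kernel

end CfsgLib.KnownA.HSModel.Seven
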