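import Cfsg.Agent.Lib.KnownA.PermCert
import Cfsg.Agent.Lib.KnownA.CertTables

/-!
Certificate for the Schur multiplier of the Higman–Sims group, kernels of exponent 3.
-/

set_option autoImplicit false
set_option maxRecDepth 100000

namespace CfsgLib.KnownA.HSModel.Three

open CfsgLib.KnownA.SchurCert CfsgLib.KnownA.SchurCert.Tables CfsgLib.KnownA.PermCert

/-- Table, part 0. -/
def actPart0 : List ℕ := [
  0x30001, 0x40002, 0x50000, 0x60004,
  0x70005, 0x80003, 0x7, 0x10008,
  0x20006]

/-- Table. -/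
def act : List (List ℕ) := [actPart0]

/-- Table, part 0. -/
def mskPart0 : List ℕ := [
  0x0, 0x0, 0x1, 0x100,
  0x100, 0x101, 0x100000000000000000200, 0x100000000000000000200,
  0x100000000000000000201]

/-- Table. -/
def msk : List (List ℕ) := [mskPart0]

/-- Table, part 0. -/
def justPart0 : List ℕ := [
  0x0, 0x0, 0x2000000, 0x1000001,
  0x1000101, 0x2000300, 0x200000201000301, 0x200010201000401,
  0x200020202000801]

/-- Table. -/
def just : List (List ℕ) := [justPart0]

/-- Table, part 0. -/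
def rankPart0 : List ℕ := [
  0x0, 0x0, 0x1, 0x1,
  0x1, 0x2, 0x10002, 0x10002,
  0x10002]

/-- Table. -/
def rank : List (List ℕ) := [rankPart0]

/-- Certificate. -/
def cert : Cert (List ℕ) :=
  mkCertT (decList 3) 3 2 9 act msk just rank
    [([0, 0, 0], []),
   ([1, 0], [0, 1]),
   ([1, 1, 1], [])]
    [none, none] [3, 3]
    []
    [([(1, 5), (2, 7)],
    [(2, 2, 1), (1, 1, 2)]),
   ([(3, 8), (6, 4)],
    [(6, 6, 1), (3, 3, 2)]),
   ([(1, 5), (3, 1), (4, 3)],
    [(3, 1, 1), (1, 3, 2)])]
    [[(0, 1), (1, 2)],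
   [(2, 2)],
   [(0, 1), (1, 1)]]

/-- Elements. -/
def codes : List ℕ := [0x424972a0a0addc2b62c98687ea10783e83e66743230328a4987096443658e3f5f469077096b936eeab39537d6c1801089ec0ae7ce4e01b24112d0636b154308e3535a2f1aec876318d57a381e2bd344cca629961342d119,
  0x722d48c6aacc5cb442cd54c1cadd6411f517afd423971069a265a2b77718e4d0d4175f4b1ccb6946de00a47ca41153e42c25887c02e861a4108abb4a6797b070b71d4130ac03757a4dbc23888254753cc0b3ab3363800a0,
  0x76c9f1f898975c52811d745340215f523b8aa2d54e20222ac6920b4c4c0d3856a96d067a3e5e11d3df81b729689a744a46be1cc1282d821c8161d1b3b0b017c724999484691e67586b92b64d3c577980a5031bd0620aec3,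
  0xc64640a686de423cb2808bd2a60524da9df12c19c0493d3109cf6ce10612e8f8358b9992bc03aa4e10d48ea95da029cad14a518ae65896be3a3b05b05711558662b9f0ea518b9a4d0451a59cbf352da866e7223b18a2358,
  0x18eae93811d48ea43ee0405370b351525a2301eb462e231a60715bcc227a8b5a606d2f62371494651fabab3abbe0b60cca86dad9f822d6d9849ef2a3b12fd0900094f38b1734346d03d2a910bb4ac98160cf051072e04e0]

/-- Transpositions with product an element. -/
def evenSwaps0 : List (ℕ × ℕ) := [(0, 25), (25, 38), (1, 34), (34, 75), (2, 11), (11, 94), (3, 26), (26, 13), (4, 97), (97, 46), (5, 50), (50, 95), (6, 10), (10, 77), (7, 83), (83, 60), (8, 76), (76, 35), (12, 98), (98, 18), (15, 61), (61, 82), (16, 85), (85, 84), (17, 49), (49, 45), (19, 59), (59, 56), (20, 72), (72, 73), (21, 93), (93, 91), (22, 70), (70, 66), (24, 90), (90, 88), (27, 71), (71, 67), (28, 48), (48, 65), (29, 40), (40, 78), (30, 69), (69, 44), (31, 53), (53, 86), (32, 99), (99, 33), (37, 54), (54, 58), (41, 79), (79, 51), (42, 43), (43, 96), (47, 64), (64, 63), (52,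 57), (57, 87), (62, 81), (81, 80)]

/-- Transpositions with product an element. -/
def evenSwaps1 : List (ℕ × ℕ) := [(0, 32), (32, 52), (2, 96), (96, 12), (3, 49), (49, 20), (4, 51), (51, 82), (5, 86), (86, 7), (6, 78), (78, 63), (8, 76), (76, 35), (9, 39), (39, 23), (10, 29), (29, 47), (11, 42), (42, 98), (13, 17), (17, 73), (15, 97), (97, 41), (16, 91), (91, 90), (18, 94), (94, 43), (19, 58), (58, 71), (21, 88), (88, 85), (22, 66), (66, 70), (24, 84), (84, 93), (25, 99), (99, 57), (26, 45), (45, 72), (27, 56), (56, 54), (28, 48), (48, 65), (31, 83), (83, 50), (33, 87), (87, 38), (37, 67), (67, 59), (40, 64), (64, 77), (46, 79), (79, 61), (53, 60), (60, 95), (55, 74), (74, 68), (62, 80), (80, 81)]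

/-- Transpositions with product an element. -/
def evenSwaps2 : List (ℕ × ℕ) := [(0, 67), (67, 38), (38, 54), (54, 79), (79, 85), (1, 93), (93, 46), (46, 81), (81, 71), (71, 52), (3, 49), (49, 45), (45, 20), (20, 30), (30, 66), (4, 80), (80, 56), (56, 97), (97, 62), (62, 37), (5, 55), (55, 14), (14, 89), (89, 35), (35, 64), (6, 12), (12, 60), (7, 40), (40, 18), (18, 86), (86, 77), (77, 42), (8, 10), (10, 94), (94, 98), (98, 50), (50, 74), (9, 48), (11, 43), (43, 95), (95, 68), (68, 76), (76, 78), (13, 26), (26, 73), (73, 69), (69, 22), (22, 17), (15, 21), (21, 82), (82, 84), (84, 33), (33, 58), (16, 57), (57, 75), (19, 51), (51, 91), (91, 41), (41, 24), (24, 25), (23, 36), (36, 28), (27, 99), (99, 59), (59, 61), (61, 90), (90, 32), (29, 96), (96, 31), (34, 88), (88, 87), (39, 65), (44, 70), (70, 72), (47, 83), (53, 63)]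

/-- Transpositions with product an element. -/
def evenSwaps3 : List (ℕ × ℕ) := [(0, 88), (88, 8), (8, 6), (6, 28), (28, 85), (85, 76), (76, 64), (64, 15), (15, 13), (13, 57), (1, 70), (70, 61), (61, 23), (23, 7), (7, 55), (55, 82), (82, 54), (54, 56), (56, 58), (58, 47), (2, 40), (40, 46), (46, 39), (39, 50), (50, 42), (42, 20), (20, 11), (11, 26), (26, 24), (24, 31), (3, 12), (12, 63), (63, 65), (65, 93), (93, 60), (60, 25), (25, 87), (87, 94), (94, 27), (27, 67), (4, 59), (59, 73), (73, 38), (38, 98), (98, 17), (17, 32), (32, 91), (91, 30), (30, 92), (92, 66), (5, 68), (68, 97), (97, 72), (72, 16), (16, 69), (69, 89), (89, 80), (80, 95), (95, 52), (52, 84), (9, 53), (53, 33), (33, 96), (96, 10), (10, 75), (75, 36), (36, 62), (62, 86), (86, 74), (74, 79), (14, 22), (22, 41), (41, 49), (49, 43), (43, 37), (37, 45), (45, 21), (21, 35), (35, 29), (29, 34), (18, 19), (19, 77), (77, 51), (51, 71), (71, 78), (78, 48), (48, 90), (90, 44), (44, 81), (81, 83)]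

/-- Transpositions with product an element. -/
def evenSwaps4 : List (ℕ × ℕ) := [(0, 96), (96, 19), (19, 26), (1, 9), (9, 48), (48, 62), (2, 56), (56, 73), (73, 99), (99, 12), (12, 59), (59, 49), (49, 87), (3, 57), (57, 98), (98, 58), (58, 13), (13, 33), (33, 94), (94, 71), (4, 16), (16, 61), (61, 90), (90, 15), (15, 21), (21, 46), (46, 88), (5, 10), (10, 50), (50, 78), (78, 7), (7, 6), (6, 60), (60, 47), (8, 22), (22, 44), (44, 74), (11, 37), (37, 45), (45, 25), (25, 18), (18, 27), (27, 72), (72, 38), (14, 36), (36, 89), (89, 92), (17, 32), (32, 42), (42, 54), (54, 20), (20, 52), (52, 43), (43, 67), (23, 28), (28, 80), (80, 34), (34, 39), (39, 65), (65, 81), (81, 75), (24, 79), (29, 95), (95, 64), (64, 53), (53, 63), (63, 83), (83, 40), (40, 31), (30, 68), (68, 76), (76, 70), (70, 69), (69, 55), (55, 35), (35, 66), (41, 91), (91, 82), (82, 84), (84, 51), (51, 85), (85, 97), (97, 93), (77, 86)]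

/-- Transpositions for the elements. -/
def evenSwaps : List (List (ℕ × ℕ)) := [evenSwaps0, evenSwaps1, evenSwaps2, evenSwaps3, evenSwaps4]

theorem ok : allOK 100 (modOps 3 3) cert [] codes = true := by decide +kernel

end CfsgLib.KnownA.HSModel.Three
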