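import Cfsg.Agent.Lib.KnownA.HSModel.Member
import Cfsg.Agent.Lib.KnownA.HSModel.Two
import Cfsg.Agent.Lib.KnownA.HSModel.Four
import Cfsg.Agent.Lib.KnownA.HSModel.Three
import Cfsg.Agent.Lib.KnownA.HSModel.Five
import Cfsg.Agent.Lib.KnownA.HSModel.Seven
import Cfsg.Agent.Lib.KnownA.HSModel.Eleven
import Cfsg.Agent.Lib.Coprime.SchurAbelian

/-!
The Schur multiplier of the numbered Higman–Sims group has order 2.
-/

set_option autoImplicit false
set_option maxRecDepth 100000
set_option Elab.async false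

namespace CfsgLib.KnownA.HSModel

open CfsgLib.KnownA.SchurCert CfsgLib.KnownA.SchurCert.Tables CfsgLib.KnownA.PermCert
open CfsgLib.KnownA.SpinPullback

/-- All listed elements are even symmetries. -/
def memsOK (codes : List ℕ) (L : List (List (ℕ × ℕ))) : Bool :=
  Nat.beq codes.length L.length &&
    (List.range codes.length).all fun k => evenOK (codes.getD k 0) (L.getD k [])

theorem mems {codes : List ℕ} {L : List (List (ℕ × ℕ))} (h : memsOK codes L = true) :
    ∀ c ∈ codes, permOf 100 c ∈ hsPermGroup := by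
  simp only [memsOK, Bool.and_eq_true, List.all_eq_true, List.mem_range] at h
  intro c hc
  obtain ⟨k, hk, rfl⟩ := List.getElem_of_mem hc
  have := h.2 k hk
  rw [List.getD_eq_getElem _ _ hk] at this
  exact mem_of_evenOK this

theorem mem_two : memsOK Two.codes Two.evenSwaps = true := by decide +kernel
theorem mem_four : memsOK Four.codes Four.evenSwaps = true := by decide +kernel
theorem mem_three : memsOK Three.codes Three.evenSwaps = true := by decide +kernel
theorem mem_five : memsOK Five.codes Five.evenSwaps = true := by decide +kernel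
theorem mem_seven : memsOK Seven.codes Seven.evenSwaps = true := by decide +kernel
theorem mem_eleven : memsOK Eleven.codes Eleven.evenSwaps = true := by decide +kernel

theorem spin_ok : pairOK 100 spinX spinY spinBlocks = true ∧
    evenOK spinX spinXSwaps = true ∧ evenOK spinY spinBlocks.flatten = true := by
  decide +kernel

instance : Finite ↥hsPermGroup := Nat.finite_of_card_ne_zero (by rw [card_hsPermGroup]; norm_num)

variable {Γ : Type} [Group Γ] [Finite Γ] {σ : Γ →* ↥hsPermGroup}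

theorem four_bound (hσ : Cfsg.IsStemExtension σ) (he : ∀ x ∈ σ.ker, x ^ 4 = 1) :
    ∀ x ∈ σ.ker, x ^ 2 = 1 := by
  obtain ⟨t, ⟨htk, ht⟩, hle⟩ := PermCert.ker_le quadPairOps Four.cert _ Four.codes hsPermGroup
    (fun τ h => ⟨quadPairEv _ τ h⟩) (mems mem_four) (by rw [card_hsPermGroup]; decide +kernel)
    Four.ok hσ he
  have hb := Four.bound_ok
  simp only [List.all_eq_true] at hb
  suffices ∀ y ∈ Subgroup.closure (t '' {r | r ∈ Four.bound.map Prod.fst}), y ∈ σ.ker ∧ y ^ 2 = 1 by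
    intro x hx
    refine (this x ?_).2
    rw [show Four.bound.map Prod.fst = [35, 17, 9, 0] by decide +kernel]
    exact hle hx
  intro y hy
  induction hy using Subgroup.closure_induction with
  | mem y hy =>
    obtain ⟨r, hr, rfl⟩ := hy
    obtain ⟨e, he', rfl⟩ := List.mem_map.1 hr
    exact ⟨htk _, ht _ _ _ (hb e he')⟩
  | one => exact ⟨one_mem _, one_pow 2⟩
  | mul a b _ _ ha hb =>
    refine ⟨mul_mem ha.1 hb.1, ?_⟩
    rw [(show Commute a b from (Subgroup.mem_center_iff.mp (hσ.2.1 hb.1) a)).mul_pow, ha.2, hb.2,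
      one_mul]
  | inv a _ ha => exact ⟨inv_mem ha.1, by rw [inv_pow, ha.2, inv_one]⟩

theorem two_gen (hσ : Cfsg.IsStemExtension σ) (he : ∀ x ∈ σ.ker, x ^ 2 = 1) :
    ∃ a ∈ σ.ker, σ.ker ≤ Subgroup.zpowers a := by
  obtain ⟨t, ⟨htk, -⟩, hle⟩ := PermCert.ker_le bitOps Two.cert _ Two.codes hsPermGroup
    (fun τ h => ⟨bitEv _ τ h⟩) (mems mem_two) (by rw [card_hsPermGroup]; decide +kernel)
    Two.ok hσ he
  refine ⟨t 35, htk _, hle.trans ((Subgroup.closure_le _).2 ?_)⟩
  rintro _ ⟨r, hr, rfl⟩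
  rw [show r = 35 by simpa using hr]
  exact Subgroup.mem_zpowers _

theorem odd_bound (hσ : Cfsg.IsStemExtension σ) {p : ℕ} [Fact p.Prime]
    (hp : p = 3 ∨ p = 5 ∨ p = 7 ∨ p = 11) : ¬ p ∣ Nat.card σ.ker := by
  refine prime_not_dvd_ker p (fun Δ _ _ τ hτ he => ?_) hσ
  rcases hp with rfl | rfl | rfl | rfl
  · obtain ⟨t, -, hle⟩ := PermCert.ker_le _ Three.cert [] Three.codes hsPermGroup
      (fun τ h => ⟨modEv 3 _ τ h⟩) (mems mem_three) (by rw [card_hsPermGroup]; decide +kernel)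
      Three.ok hτ he
    simpa using hle
  · obtain ⟨t, -, hle⟩ := PermCert.ker_le _ Five.cert [] Five.codes hsPermGroup
      (fun τ h => ⟨modEv 5 _ τ h⟩) (mems mem_five) (by rw [card_hsPermGroup]; decide +kernel)
      Five.ok hτ he
    simpa using hle
  · obtain ⟨t, -, hle⟩ := PermCert.ker_le _ Seven.cert [] Seven.codes hsPermGroup
      (fun τ h => ⟨modEv 7 _ τ h⟩) (mems mem_seven) (by rw [card_hsPermGroup]; decide +kernel)
      Seven.ok hτ he
    simpa using hle
  · obtain ⟨t, -, hle⟩ := PermCert.ker_le _ Eleven.cert [] Eleven.codes hsPermGroup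
      (fun τ h => ⟨modEv 11 _ τ h⟩) (mems mem_eleven) (by rw [card_hsPermGroup]; decide +kernel)
      Eleven.ok hτ he
    simpa using hle

theorem ker_sq (hσ : Cfsg.IsStemExtension σ) : ∀ x ∈ σ.ker, x ^ 2 = 1 := by
  have h512 : ∀ x ∈ σ.ker, x ^ 512 = 1 := by
    intro x hx
    have h1 : orderOf x ∣ 512 * (3 ^ 2 * 5 ^ 3 * 7 * 11) := by
      rw [orderOf_dvd_iff_pow_eq_one,
        show 512 * (3 ^ 2 * 5 ^ 3 * 7 * 11) = Nat.card ↥hsPermGroup by rw [card_hsPermGroup]; norm_num]
      exact ker_pow_card hσ x hx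
    have h2 : orderOf x ∣ Nat.card σ.ker := by
      rw [← Subgroup.orderOf_mk x hx]
      exact orderOf_dvd_natCard _
    have co : ∀ p, p.Prime → (p = 3 ∨ p = 5 ∨ p = 7 ∨ p = 11) → Nat.Coprime (orderOf x) p := by
      intro p hp h
      have : Fact p.Prime := ⟨hp⟩
      exact (hp.coprime_iff_not_dvd.2 fun hd => odd_bound hσ h (hd.trans h2)).symm
    refine orderOf_dvd_iff_pow_eq_one.1 (Nat.Coprime.dvd_of_dvd_mul_right ?_ h1)
    exact ((((co 3 (by norm_num) (by norm_num)).pow_right 2).mul_right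
      ((co 5 (by norm_num) (by norm_num)).pow_right 3)).mul_right
        (co 7 (by norm_num) (by norm_num))).mul_right (co 11 (by norm_num) (by norm_num))
  have hn : ∀ (n : ℕ), ∀ x ∈ σ.ker, ∃ y ∈ σ.ker, x ^ 2 = y ^ (2 * 2 ^ n) := by
    intro n
    induction n with
    | zero => exact fun x hx => ⟨x, hx, by norm_num⟩
    | succ n ih =>
      intro x hx
      obtain ⟨y, hy, e⟩ := exists_pow_eq_of_exponent 4 2
        (fun _ _ _ _ hτ h => four_bound hτ h) hσ x hx
      obtain ⟨z, hz, e'⟩ := ih y hy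
      refine ⟨z, hz, ?_⟩
      rw [← e, show y ^ 4 = (y ^ 2) ^ 2 by rw [← pow_mul], e', ← pow_mul, pow_succ, mul_assoc]
  intro x hx
  obtain ⟨y, hy, e⟩ := hn 8 x hx
  rw [e]
  exact h512 y hy

/-- The Schur multiplier of the numbered group. -/
theorem multiplier : Cfsg.HasCyclicSchurMultiplier ↥hsPermGroup 2 := by
  obtain ⟨Γ, _, _, σ, hσ, ⟨e⟩, -⟩ :=
    Schur.exists_cover_over (Schur.isStemExtension_id ↥hsPermGroup)
  have hsq := ker_sq hσ
  obtain ⟨a, ha, hle⟩ := two_gen hσ hsq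
  have heq : Subgroup.zpowers a = σ.ker := le_antisymm (Subgroup.zpowers_le.2 ha) hle
  have hdvd : Nat.card σ.ker ∣ 2 := by
    rw [← heq, Nat.card_zpowers]
    exact orderOf_dvd_of_pow_eq_one (hsq a ha)
  have hc : IsCyclic σ.ker := heq ▸ inferInstance
  rw [Schur.hasCyclicSchurMultiplier_iff]
  refine ⟨e.isCyclic.mp hc, Nat.dvd_antisymm (Nat.card_congr e.toEquiv ▸ hdvd) ?_⟩
  obtain ⟨hp, hx, hy⟩ := spin_ok
  obtain ⟨Δ, _, _, τ, hτ, h2⟩ := exists_stem_two hsPermGroup range_even (by norm_num)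
    (mem_of_evenOK hx) (mem_of_evenOK hy) hp
  obtain ⟨π, hπ⟩ := Schur.exists_surjective_of_stem hτ
  exact h2.trans (Subgroup.card_dvd_of_surjective π hπ)

end CfsgLib.KnownA.HSModel
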