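import Mathlib.Data.List.Basic

/-!
An odd symmetry of the graph and a pair of involutions with anticommuting spinor lifts.
-/

set_option autoImplicit false

namespace CfsgLib.KnownA.HSModel

/-- An odd symmetry. -/
def oddCode : ℕ := 0x8eb92caa4c04e21f851428208514435d8d8032d03cb40141bbee4c2b7e65b23b921dd42116e8d7d8c6171069a27893ce33bca85d12332d93b2b0fd52479ba6ac570530ad419d0ebdd0e86182327ae12499aa60462cb6750

/-- Its transpositions. -/
def oddSwaps : List (ℕ × ℕ) := [(0, 80), (80, 88), (88, 66), (66, 25), (25, 96), (96, 74), (1, 78), (78, 75), (75, 90), (90, 97), (97, 37), (37, 91), (91, 15), (15, 67), (67, 63), (63, 92), (92, 98), (98, 46), (46, 79), (2, 45), (45, 28), (28, 38), (38, 76), (76, 60), (60, 84), (84, 20), (20, 29), (29, 55), (55, 62), (62, 72), (72, 27), (27, 86), (3, 22), (22, 53), (53, 12), (12, 50), (50, 26), (26, 21), (4, 70), (70, 57), (57, 93), (93, 9), (9, 36), (36, 19), (19, 7), (7, 77), (77, 32), (32, 85), (85, 10), (10, 56), (56, 13), (5, 64), (64, 35), (35, 89),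 (89, 34), (34, 44), (44, 51), (51, 8), (8, 73), (73, 40), (40, 81), (81, 49), (49, 52), (52, 23), (6, 41), (41, 11), (11, 61), (61, 59), (59, 16), (16, 14), (17, 58), (58, 69), (69, 24), (24, 83), (83, 33), (33, 31), (31, 18), (18, 47), (47, 68), (68, 43), (43, 94), (94, 48), (48, 39), (54, 99), (99, 71), (71, 95), (95, 82), (82, 87), (87, 65)]

/-- The first involution. -/
def spinX : ℕ := 0xbc12d46978e509378583d187008675469399320436bf767ce178140d1cd55ad4e2ac340b4e8123d3213c583d35906420338290a457ec4c2a261ca822cdcbd6b664d253a7d0a946e002e650e2578efae4d4551de25e82a91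

/-- The second involution. -/
def spinY : ℕ := 0xab6c94c8604bc9c4e10d158fb19082f6c03128dfe01c76e136ad8f85be2e9989b5a9291aad7da631a3941865b9572192d77409e1610796a09c46ca48a9a50a083d940baa18349185154352ddb384727a700ba21ba0aaf07

/-- Transpositions of the first. -/
def spinXSwaps : List (ℕ × ℕ) := [(0, 17), (1, 85), (2, 32), (3, 47), (4, 98), (5, 59), (6, 84), (7, 34), (8, 77), (9, 92), (10, 62), (11, 71), (12, 87), (13, 68), (14, 67), (15, 50), (16, 46), (18, 56), (19, 35), (20, 41), (21, 33), (22, 31), (23, 29), (24, 37), (25, 26), (27, 91), (28, 86), (30, 55), (36, 42), (38, 49), (39, 63), (40, 69), (43, 65), (44, 51), (45, 64), (48, 89), (52, 60), (53, 66), (54, 76), (57, 80), (58, 83), (61, 88), (70, 96), (72, 78), (73, 79), (74, 93), (75, 95), (81, 82), (90, 97), (94, 99)]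

/-- Transpositions of the second in blocks. -/
def spinBlocks : List (List (ℕ × ℕ)) := [[(0, 7), (17, 34)], [(1, 94), (85, 99)], [(2, 42), (32, 36)], [(3, 80), (47, 57)], [(4, 27), (98, 91)], [(5, 68), (59, 13)], [(6, 46), (84, 16)], [(8, 39), (77, 63)], [(9, 79), (92, 73)], [(10, 28), (62, 86)], [(11, 66), (71, 53)], [(12, 51), (87, 44)], [(14, 75), (67, 95)], [(15, 26), (50, 25)], [(18, 97), (56, 90)], [(19, 72), (35, 78)], [(20, 52), (41, 60)], [(21, 48), (33, 89)], [(22, 40), (31, 69)], [(23, 93), (29, 74)], [(24, 64), (37, 45)], [(30, 38), (55, 49)], [(43, 58), (65, 83)], [(54, 70), (76, 96)], [(61, 82), (88, 81)]]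

end CfsgLib.KnownA.HSModel
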