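import Cfsg.Agent.Lib.KnownA.HSModel.Group
import Cfsg.Agent.Lib.KnownA.HSModel.SpinData
import Cfsg.Agent.Lib.KnownA.SpinPullback

/-!
The numbered Higman–Sims group consists of the even symmetries of the table.
-/

set_option autoImplicit false
set_option maxRecDepth 100000

namespace CfsgLib.KnownA.HSModel

open Cfsg CfsgLib.Golay CfsgLib.KnownA.PermCert CfsgLib.KnownA.SpinPullback

/-- The code is the product of the transpositions. -/
def swapsOK (c : ℕ) (L : List (ℕ × ℕ)) : Bool :=
  valid 100 c && L.all (fun p => Nat.blt p.1 100 && Nat.blt p.2 100 && !Nat.beq p.1 p.2) &&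
    (List.range 100).all fun i => Nat.beq (swapsAct L i) (pimg c i)

/-- Membership of an element. -/
def evenOK (c : ℕ) (L : List (ℕ × ℕ)) : Bool :=
  autOK c && swapsOK c L && Nat.beq (L.length % 2) 0

theorem sign_of_swapsN {n : ℕ} (hn : 0 < n) {c : ℕ} {L : List (ℕ × ℕ)}
    (h : (valid n c && L.all (fun p => Nat.blt p.1 n && Nat.blt p.2 n && !Nat.beq p.1 p.2) &&
      (List.range n).all fun i => Nat.beq (swapsAct L i) (pimg c i)) = true) :
    Equiv.Perm.sign (permOf n c) = (-1) ^ L.length := by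
  simp only [Bool.and_eq_true, List.all_eq_true, List.mem_range, Nat.blt_eq] at h
  obtain ⟨⟨hv, hlt⟩, hact⟩ := h
  have hflat : (toFinList hn L).map (fun p => ((p.1 : ℕ), (p.2 : ℕ))) = L := by
    rw [toFinList, List.map_map]
    refine (List.map_congr_left fun p hp => ?_).trans (List.map_id _)
    simp [Nat.mod_eq_of_lt (hlt p hp).1.1, Nat.mod_eq_of_lt (hlt p hp).1.2]
  have e : swapsPerm (toFinList hn L) = permOf n c := Equiv.ext fun i =>
    Fin.ext (by rw [swapsAct_spec, hflat, permOf_val hv, Nat.eq_of_beq_eq_true (hact i i.2)])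
  rw [← e, swapsPerm, map_list_prod, List.map_map, List.eq_replicate_of_mem (a := (-1 : ℤˣ))
    (l := List.map _ _) ?_, List.prod_replicate]
  · simp [toFinList]
  · intro s hs
    obtain ⟨p, hp, rfl⟩ := List.mem_map.1 hs
    refine Equiv.Perm.sign_swap fun e' => ?_
    have hm : ((p.1 : ℕ), (p.2 : ℕ)) ∈ L := hflat ▸ List.mem_map.2 ⟨p, hp, rfl⟩
    have := (hlt _ hm).2
    rw [e', Nat.beq_refl] at this
    exact absurd this (by decide)

theorem sign_of_swaps {c : ℕ} {L : List (ℕ × ℕ)} (h : swapsOK c L = true) :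
    Equiv.Perm.sign (permOf 100 c) = (-1) ^ L.length :=
  sign_of_swapsN (by norm_num) h

theorem range_even : hsPermGroup ≤ alternatingGroup (Fin 100) := by
  refine genGroup_le fun c hc => ?_
  obtain ⟨k, hk, rfl⟩ := List.getElem_of_mem hc
  have h := List.all_eq_true.1 gens_ok k (List.mem_range.2 (show k < 2 from hk))
  simp only [Bool.and_eq_true, autOK] at h
  rw [List.getD_eq_getElem _ _ hk] at h
  obtain ⟨⟨⟨hv, -⟩, hodd⟩, hpow⟩ := h
  have := (eqW_iff (fun d hd => by rw [List.eq_of_mem_replicate hd]; exact hv) (by simp)).1 hpow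
  rw [prodW, List.map_replicate, List.prod_replicate] at this
  have hs := congrArg Equiv.Perm.sign this
  rw [map_pow, show prodW 100 [] = 1 from rfl, map_one] at hs
  rw [Equiv.Perm.mem_alternatingGroup]
  rcases Int.units_eq_one_or (Equiv.Perm.sign (permOf 100 hsGens[k])) with e | e
  · exact e
  · rw [e, Odd.neg_one_pow (Nat.odd_iff.2 (Nat.eq_of_beq_eq_true hodd))] at hs
    exact absurd hs (by decide)

theorem odd_ok : (autOK oddCode && swapsOK oddCode oddSwaps && Nat.beq (oddSwaps.length % 2) 1) = true := by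
  decide +kernel

/-- An even symmetry lies in the group. -/
theorem mem_of_evenOK {c : ℕ} {L : List (ℕ × ℕ)} (h : evenOK c L = true) :
    permOf 100 c ∈ hsPermGroup := by
  have ho := odd_ok
  simp only [evenOK, Bool.and_eq_true] at h ho
  obtain ⟨⟨hc, hcs⟩, hce⟩ := h
  obtain ⟨⟨hd, hds⟩, hdo⟩ := ho
  let a : hsGraphAut := ⟨_, aut_mem hc⟩
  let b : hsGraphAut := ⟨_, aut_mem hd⟩
  let back : hsGraphAut →* Equiv.Perm (Fin 100) :=
    ptEquiv.symm.permCongrHom.toMonoidHom.comp hsGraphAut.subtype
  have hback : ∀ x (hx : ptEquiv.permCongrHom (permOf 100 x) ∈ hsGraphAut),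
      back ⟨_, hx⟩ = permOf 100 x := fun x hx => Equiv.ext fun i => by
    show ptEquiv.symm.permCongr (ptEquiv.permCongr (permOf 100 x)) i = _
    simp [Equiv.permCongr_apply]
  have hsign : ∀ z ∈ hsPermHom.range, Equiv.Perm.sign (back z) = 1 := by
    rintro _ ⟨g, rfl⟩
    exact Equiv.Perm.mem_alternatingGroup.1 (range_even (gen_eq_range ▸ ⟨g, rfl⟩))
  have sa : Equiv.Perm.sign (back a) = 1 := by
    rw [hback, sign_of_swaps hcs,
      (Nat.even_iff.2 (Nat.eq_of_beq_eq_true hce)).neg_one_pow]
  have sb : Equiv.Perm.sign (back b) = -1 := by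
    rw [hback, sign_of_swaps hds,
      (Nat.odd_iff.2 (Nat.eq_of_beq_eq_true hdo)).neg_one_pow]
  by_cases ha : a ∈ hsPermHom.range
  · obtain ⟨g, hg⟩ := ha
    rw [gen_eq_range]
    refine ⟨g, ?_⟩
    rw [← hback c (aut_mem hc)]
    exact congrArg back hg
  · exfalso
    have hb : b ∉ hsPermHom.range := fun hb => by
      have := hsign b hb; rw [sb] at this; exact absurd this (by decide)
    have hab : a * b ∈ hsPermHom.range :=
      (Subgroup.mul_mem_iff_of_index_two index_range).2 (iff_of_false ha hb)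
    have := hsign _ hab
    rw [map_mul, map_mul, sa, sb] at this
    exact absurd this (by decide)

end CfsgLib.KnownA.HSModel
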