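import Cfsg.Agent.Lib.KnownA.HSModel.Data
import Cfsg.Agent.Lib.KnownA.PermCert
import Cfsg.Agent.Lib.Golay.HSOut

/-!
The 100 vectors of the Higman–Sims configuration numbered, and their graph as a table.
-/

set_option autoImplicit false
set_option maxRecDepth 100000

namespace CfsgLib.KnownA.HSModel

open Cfsg CfsgLib.Golay

/-- Membership in an octad of the configuration. -/
def octBit (i k : ℕ) : Bool := (octMasks.getD (i - 23) 0).testBit k

/-- An entry of a numbered vector. -/
def entry (i k : ℕ) : ℤ :=
  bif Nat.beq i 0 then (bif Nat.beq k 0 || Nat.beq k 23 then 4 else 0)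
  else bif Nat.ble i 22 then (bif Nat.beq k i then -3 else 1)
  else bif octBit i k then 2 else 0

/-- A numbered vector. -/
def vecFn (i : ℕ) : GolayPt → ℤ := fun p => entry i (idx p)

theorem octs_ok : (octMasks.all fun m => octList.contains m && m.testBit 0 && m.testBit 23) = true ∧
    octMasks.length = 77 := by
  decide +kernel

theorem vec_small : ∀ k < 24, entry 0 k =
    (Pi.single pinf 4 + Pi.single pz 4 : GolayPt → ℤ) (pt k) := by
  decide +kernel

theorem vecFn_cases {i : ℕ} (hi : i < 100) :
    ∃ h : vecFn i ∈ leechLattice, (⟨vecFn i, h⟩ : leechLattice) ∈ hsPoints := by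
  classical
  rcases Nat.eq_zero_or_pos i with rfl | hpos
  · have e : vecFn 0 = ((min44 : leechLattice) : GolayPt → ℤ) := funext fun p => by
      rw [min44_coe]
      have := vec_small (idx p) (idx_lt p)
      rwa [pt_idx] at this
    refine ⟨e ▸ min44.2, ?_⟩
    rw [show (⟨vecFn 0, e ▸ min44.2⟩ : leechLattice) = min44 from Subtype.ext e]
    exact min44_hs
  rcases Nat.lt_or_ge 22 i with h | h
  · have hoct : ∃ m ∈ octMasks, octBit i = m.testBit := by
      have hl : i - 23 < octMasks.length := by rw [octs_ok.2]; omega
      exact ⟨octMasks.getD (i - 23) 0, by rw [List.getD_eq_getElem _ _ hl]; exact List.getElem_mem hl,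
        rfl⟩
    obtain ⟨m, hm, hb⟩ := hoct
    have hmo := List.all_eq_true.1 octs_ok.1 m hm
    simp only [Bool.and_eq_true, List.contains_iff_mem] at hmo
    obtain ⟨⟨hmem, hb0⟩, hb23⟩ := hmo
    have ho : mset m ∈ octads := mem_octads_iff.2 ⟨m, hmem, rfl⟩
    have e : vecFn i = octP (mset m) := funext fun p => by
      have h1 : Nat.beq i 0 = false := by
        cases hh : Nat.beq i 0
        · rfl
        · exact absurd (Nat.eq_of_beq_eq_true hh) (by omega)
      have h2 : Nat.ble i 22 = false := by
        cases hh : Nat.ble i 22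
        · rfl
        · exact absurd (Nat.le_of_ble_eq_true hh) (by omega)
      simp only [vecFn, entry, h1, h2, cond_false, hb, octP, mem_mset]
      cases m.testBit (idx p) <;> simp
    refine ⟨e ▸ octP_mem ho, ?_⟩
    rw [mem_hsPoints]
    have hc : (mset m).card = 8 := ho.2
    have h0 : pz ∈ mset m := mem_mset.2 (by rw [pz, idx_pt (by norm_num)]; exact hb0)
    have h23 : pinf ∈ mset m := mem_mset.2 (by rw [pinf, idx_pt (by norm_num)]; exact hb23)
    refine ⟨?_, ?_, ?_⟩
    · show sqNorm (vecFn i) = 32
      rw [e, sqNorm]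
      rw [Finset.sum_congr rfl (fun p _ => show octP (mset m) p ^ 2 = if p ∈ mset m then 4 else 0 by
        simp only [octP]; split_ifs <;> norm_num), Finset.sum_ite_mem, Finset.univ_inter,
        Finset.sum_const, hc]
      norm_num
    · show (∑ p, vecFn i p) + 4 * vecFn i pinf = 24
      rw [e, sum_octP, hc]
      simp [octP, h23]
    · show vecFn i pz = vecFn i pinf
      rw [e]
      simp [octP, h0, h23]
  · have e : vecFn i = oddP (pt i) := funext fun p => by
      have h1 : Nat.beq i 0 = false := by
        cases hh : Nat.beq i 0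
        · rfl
        · exact absurd (Nat.eq_of_beq_eq_true hh) (by omega)
      have h2 : Nat.ble i 22 = true := Nat.ble_eq_true_of_le h
      simp only [vecFn, entry, h1, h2, cond_false, cond_true, oddP]
      by_cases hp : p = pt i
      · subst hp; rw [idx_pt (by omega), Nat.beq_refl, if_pos rfl]; rfl
      · rw [if_neg hp]
        cases hh : Nat.beq (idx p) i
        · rfl
        · exact absurd (by rw [← Nat.eq_of_beq_eq_true hh, pt_idx]) hp
    refine ⟨e ▸ oddP_mem _, ?_⟩
    rw [mem_hsPoints]
    have key : ∀ j < 23, 1 ≤ j → sqNorm (oddP (pt j)) = 32 ∧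
        oddP (pt j) pinf = 1 ∧ oddP (pt j) pz = 1 := by decide +kernel
    obtain ⟨k1, k2, k3⟩ := key i (by omega) hpos
    refine ⟨?_, ?_, ?_⟩
    · show sqNorm (vecFn i) = 32
      rw [e, k1]
    · show (∑ p, vecFn i p) + 4 * vecFn i pinf = 24
      rw [e, sum_oddP, k2]; norm_num
    · show vecFn i pz = vecFn i pinf
      rw [e, k2, k3]

/-- A numbered point. -/
def hpt (i : Fin 100) : hsPoints :=
  ⟨⟨vecFn i, (vecFn_cases i.2).1⟩, (vecFn_cases i.2).2⟩

/-- Dot product of two numbered vectors. -/
def dot24 (i j : ℕ) : ℤ := ((List.range 24).map fun k => entry i k * entry j k).sum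

theorem sum_pts (f : GolayPt → ℤ) : ∑ p, f p = ((List.range 24).map fun k => f (pt k)).sum := by
  rw [← List.sum_toFinset _ List.nodup_range, List.toFinset_range]
  refine Finset.sum_bij' (fun p _ => idx p) (fun k _ => pt k) (fun p _ => Finset.mem_range.2 (idx_lt p))
    (fun _ _ => Finset.mem_univ _) (fun p _ => pt_idx p)
    (fun k hk => idx_pt (Finset.mem_range.1 hk)) (fun p _ => by rw [pt_idx])

theorem dot_hpt (i j : Fin 100) :
    dotInt ((hpt i : leechLattice) : GolayPt → ℤ) (hpt j : leechLattice) = dot24 i j := by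
  show ∑ p, vecFn i p * vecFn j p = _
  rw [sum_pts, dot24]
  refine congrArg List.sum (List.map_congr_left fun k hk => ?_)
  rw [vecFn, vecFn, idx_pt (List.mem_range.1 hk)]

/-- One row of the adjacency table is correct, and the vectors are distinct. -/
def rowOK (i : ℕ) : Bool :=
  (List.range 100).all fun j =>
    Bool.xor (decide (dot24 i j = 8)) (!(adjRows.getD i 0).testBit j) &&
      (Nat.beq i j || !decide (dot24 i j = 32))

theorem rows_ok : (List.range 100).all rowOK = true := by decide +kernel

theorem adj_iff (i j : Fin 100) :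
    dotInt ((hpt i : leechLattice) : GolayPt → ℤ) (hpt j : leechLattice) = 8 ↔
      (adjRows.getD i 0).testBit j = true := by
  have h := List.all_eq_true.1 (List.all_eq_true.1 rows_ok i (List.mem_range.2 i.2)) j
    (List.mem_range.2 j.2)
  simp only [Bool.and_eq_true] at h
  have h1 := h.1
  rw [dot_hpt]
  by_cases hd : dot24 i j = 8
  · simp only [hd, decide_true] at h1
    simp only [hd, true_iff]
    cases hb : (adjRows.getD (i : ℕ) 0).testBit (j : ℕ)
    · rw [hb] at h1; exact absurd h1 (by decide)
    · rfl
  · simp only [hd, decide_false] at h1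
    refine iff_of_false hd fun hb => ?_
    rw [hb] at h1; exact absurd h1 (by decide)

theorem hpt_bijective : Function.Bijective hpt := by
  haveI := Fintype.ofFinite hsPoints
  refine (Fintype.bijective_iff_injective_and_card hpt).2 ⟨fun i j e => ?_, ?_⟩
  · have h := List.all_eq_true.1 (List.all_eq_true.1 rows_ok i (List.mem_range.2 i.2)) j
      (List.mem_range.2 j.2)
    simp only [Bool.and_eq_true, Bool.or_eq_true] at h
    rcases h.2 with h | h
    · exact Fin.ext (Nat.eq_of_beq_eq_true h)
    · have hd : dot24 i j = 32 := by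
        rw [← dot_hpt, ← e, dotInt_self]
        exact (hpt i).2.1
      rw [hd] at h
      exact absurd h (by decide)
  · rw [Fintype.card_fin, ← Nat.card_eq_fintype_card, Nat.card_coe_set_eq, ncard_hsPoints]

/-- The numbering. -/
noncomputable def ptEquiv : Fin 100 ≃ hsPoints := Equiv.ofBijective hpt hpt_bijective

end CfsgLib.KnownA.HSModel
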