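import Cfsg.Agent.Lib.KnownA.CertTables

/-!
Exponent vectors modulo `4` as pairs of bit vectors.
-/

set_option autoImplicit false

namespace CfsgLib.KnownA.HSModel

open CfsgLib.KnownA.SchurCert CfsgLib.KnownA.SchurCert.Tables

/-- Masks modulo `4`. -/
def decQuad (i x : ℕ) : ℕ × ℕ := (fld 64 (2 * i) x, fld 64 (2 * i + 1) x)

/-- Exponent vectors modulo `4` as two bit vectors. -/
def quadPairOps : Ops (ℕ × ℕ) :=
  ⟨(0, 0), fun a b => (Nat.xor a.1 b.1, Nat.xor (Nat.xor a.2 b.2) (Nat.land a.1 b.1)),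
    fun r => (Nat.shiftLeft 1 r, 0), fun a b => Nat.beq a.1 b.1 && Nat.beq a.2 b.2⟩

/-- They evaluate homomorphically in exponent `4`. -/
noncomputable def quadPairEv {K : Type*} [CommGroup K] (nt : ℕ) (τ : ℕ → K) (h : ∀ x : K, x ^ 4 = 1) :
    Ev quadPairOps nt τ where
  ev a := ∏ r ∈ Finset.range nt, τ r ^ ((a.1.testBit r).toNat + 2 * (a.2.testBit r).toNat)
  ev_zero := by simp [quadPairOps]
  ev_add a b := by
    rw [← Finset.prod_mul_distrib]
    refine Finset.prod_congr rfl fun r _ => ?_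
    show τ r ^ (((a.1 ^^^ b.1).testBit r).toNat + 2 * ((a.2 ^^^ b.2 ^^^ (a.1 &&& b.1)).testBit r).toNat) = _
    rw [← pow_add, Nat.testBit_xor, Nat.testBit_xor, Nat.testBit_xor, Nat.testBit_and,
      pow_eq_pow_mod _ (h (τ r))]
    conv_rhs => rw [pow_eq_pow_mod _ (h (τ r))]
    congr 1
    cases a.1.testBit r <;> cases b.1.testBit r <;> cases a.2.testBit r <;> cases b.2.testBit r <;> rfl
  ev_unit r hr := by
    show ∏ i ∈ Finset.range nt, τ i ^ (((1 <<< r).testBit i).toNat + 2 * ((0 : ℕ).testBit i).toNat) = τ r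
    rw [Finset.prod_eq_single r]
    · simp [Nat.one_shiftLeft]
    · intro i _ hi
      simp [Nat.one_shiftLeft, Nat.testBit_two_pow, Ne.symm hi]
    · intro h'; exact absurd (Finset.mem_range.2 hr) h'
  ev_mem W h' a := prod_mem fun r hr => pow_mem (h' r (Finset.mem_range.1 hr)) _
  beq_eq a b hab := by
    simp only [quadPairOps, Bool.and_eq_true] at hab
    rw [show a = b from Prod.ext (Nat.eq_of_beq_eq_true hab.1) (Nat.eq_of_beq_eq_true hab.2)]

end CfsgLib.KnownA.HSModel
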